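import Groth.Agent.Lib.FormalFun.Basic
import Groth.Agent.Lib.Euler.Divisor
import Groth.Agent.Lib.InvTriv26.Basic
import Groth.Agent.Lib.BlowUp.EffCartier
import Groth.Prelude.Def_ModelsG
import Mathlib.RingTheory.DiscreteValuationRing.Basic

/-!
# Cohomological flatness in degree zero over a discrete valuation ring
-/

set_option autoImplicit false
set_option linter.all false
set_option backward.isDefEq.respectTransparency false

universe u

open CategoryTheory CategoryTheory.Limits AlgebraicGeometry Opposite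
open GrothLib GrothLib.InvExt

noncomputable section

namespace GrothLib.CohFlat0

variable (R : Type u) [CommRing R] [IsDomain R] [IsDiscreteValuationRing R] {X : Scheme.{u}} [X.Over (Spec (CommRingCat.of R))]

/-- The ideal of the closed fibre, on `X`. -/
abbrev sfi (X : Scheme.{u}) [X.Over (Spec (CommRingCat.of R))] : X.IdealSheafData :=
  Models.specialFibreIdeal R (Over.mk (X ↘ Spec (CommRingCat.of R)))

local notation "F" => sfi R X

/-- A global function of the base on an open. -/
abbrev restrFun (U : X.Opens) (π : R) : Γ(X, U) :=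
  X.presheaf.map (homOfLE (le_top : U ≤ ⊤)).op (Coh.toGlobal (X ↘ Spec (CommRingCat.of R)) π)

theorem restrFun_eq_appLE (U : X.Opens) (π : R) :
    restrFun R U π = (X ↘ Spec (CommRingCat.of R)).appLE ⊤ U le_top
      ((Scheme.ΓSpecIso (CommRingCat.of R)).inv π) := rfl

theorem fres_restrFun {U V : X.Opens} (h : U ≤ V) (π : R) :
    X.presheaf.map (homOfLE h).op (restrFun R V π) = restrFun R U π := by
  change (X.presheaf.map _ ≫ X.presheaf.map _) _ = _
  rw [← Functor.map_comp]
  rfl

theorem specialFibreIdeal_ideal {π : R} (hπ : IsLocalRing.maximalIdeal R = Ideal.span {π}) (U : X.affineOpens) :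
    (F).ideal U = Ideal.span {restrFun R U.1 π} := by
  refine (BlowUp.ideal_comap_eq_map (X := X) (Curv2.idealSheaf R (IsLocalRing.maximalIdeal R))
    (X ↘ Spec (CommRingCat.of R)) ⟨⊤, isAffineOpen_top _⟩ U le_top).trans ?_
  rw [Curv2.idealSheaf, Scheme.IdealSheafData.ofIdealTop_ideal, hπ]
  simp only [Ideal.map_span, Set.image_singleton]
  rfl

theorem map_mem_nonZeroDivisors' {A B : Type*} [CommRing A] [CommRing B] (e : A ≃+* B) {a : A}
    (ha : a ∈ nonZeroDivisors A) : e a ∈ nonZeroDivisors B :=
  mem_nonZeroDivisors_iff_right.2 fun b hb => e.symm.injective (by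
    rw [map_zero]
    exact mem_nonZeroDivisors_iff_right.1 ha _ (by rw [← e.symm_apply_apply a, ← map_mul, hb, map_zero]))

theorem restrFun_mem_nonZeroDivisors [Flat (X ↘ Spec (CommRingCat.of R))] {π : R} (hπ : π ∈ nonZeroDivisors R)
    (U : X.affineOpens) : restrFun R U.1 π ∈ nonZeroDivisors Γ(X, U.1) := by
  rw [restrFun_eq_appLE]
  refine BlowUp.mem_nonZeroDivisors_of_flat _ ((X ↘ Spec (CommRingCat.of R)).flat_appLE (isAffineOpen_top _) U.2 le_top) ?_
  exact map_mem_nonZeroDivisors' (Scheme.ΓSpecIso (CommRingCat.of R)).commRingCatIsoToRingEquiv.symm hπ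

/-- The sequence `0 → O →π O → O_s → 0`. -/
theorem exists_shortExact [Flat (X ↘ Spec (CommRingCat.of R))] {π : R}
    (hπ : IsLocalRing.maximalIdeal R = Ideal.span {π}) (hπ0 : π ∈ nonZeroDivisors R) :
    ∃ h : Formal.smulMod R (Coh.structureModule X) π ≫ ClSub.toSubscheme F = 0,
      (ShortComplex.mk _ _ h).ShortExact := by
  have hval : ∀ (U : X.Opens) (m : Γ(X, U)),
      (Formal.smulMod R (Coh.structureModule X) π).app U m = restrFun R U π * m := fun U m => rfl
  haveI := Euler.epi_toSubscheme (X := X) F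
  let ι := ClSub.idealModι (X := X) F
  have hzero : Formal.smulMod R (Coh.structureModule X) π ≫ ClSub.toSubscheme F = 0 := by
    apply Scheme.Modules.hom_ext
    intro U
    refine AddCommGrpCat.hom_ext (AddMonoidHom.ext fun m => ?_)
    show (F).subschemeι.app U (restrFun R U π * (show Γ(X, U) from m)) = 0
    refine TopCat.Sheaf.eq_of_locally_eq' ⟨_, (F).subscheme.sheaf.2⟩
      (fun W : {W : X.affineOpens // W.1 ≤ U} => (F).subschemeι ⁻¹ᵁ W.1.1) _
      (fun W => homOfLE ((F).subschemeι.preimage_mono W.2)) ?_ _ _ fun W => ?_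
    · intro z hz
      obtain ⟨W, hW, hWU⟩ := BlowUp.exists_affine_mem_le (X := X) (W := U) hz
      exact TopologicalSpace.Opens.mem_iSup.2 ⟨⟨W, hWU⟩, hW⟩
    · rw [map_zero]
      have hk : X.presheaf.map (homOfLE W.2).op (restrFun R U π * (show Γ(X, U) from m)) ∈
          RingHom.ker ((F).subschemeι.app W.1.1).hom := by
        rw [Scheme.IdealSheafData.ker_subschemeι_app (F) W.1, specialFibreIdeal_ideal R hπ W.1, map_mul, fres_restrFun]
        exact Ideal.mul_mem_right _ _ (Ideal.mem_span_singleton_self _)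
      refine Eq.trans ?_ hk
      exact (ConcreteCategory.congr_hom ((F).subschemeι.naturality (homOfLE W.2).op)
        (restrFun R U π * (show Γ(X, U) from m))).symm
  refine ⟨hzero, ?_⟩
  let l := kernel.lift (ClSub.toSubscheme F) _ hzero
  have hl : ∀ (U : X.Opens) (m : Γ(X, U)), IdealModSec.val F U (l.app U m) = restrFun R U π * m := fun U m => by
    rw [← hval]
    show (l ≫ ι).app U m = _
    rw [show l ≫ ι = _ from kernel.lift_ι _ _ _]
  have he : IsGen (ClSub.idealMod F) ⊤ (l.app ⊤ (1 : Γ(X, ⊤))) := by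
    refine IdealModSec.isGen_of_affine fun T hT => ?_
    have hv : IdealModSec.val F T.1 (mres _ hT (l.app ⊤ (1 : Γ(X, ⊤)))) = restrFun R T.1 π := by
      rw [IdealModSec.val_mres, hl, mul_one]
      exact fres_restrFun R hT π
    refine ⟨fun c d hcd => ?_, fun m => ?_⟩
    · have := congrArg (IdealModSec.val F T.1) hcd
      simp only [IdealModSec.val_smul, hv] at this
      exact (mul_cancel_right_mem_nonZeroDivisors (restrFun_mem_nonZeroDivisors R hπ0 T)).1 this
    · have := IdealModSec.val_mem F T m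
      rw [specialFibreIdeal_ideal R hπ T] at this
      obtain ⟨c, hc⟩ := Ideal.mem_span_singleton'.1 this
      exact ⟨c, IdealModSec.val_injective F T.1 (by simp only [IdealModSec.val_smul, hv, hc])⟩
  haveI : IsIso l := InvTriv26.isIso_of_app_bijective l fun T => by
    have e : (fun m : Γ(X, T) => l.app T m) =
        fun m : Γ(X, T) => m • mres _ (le_top : T ≤ ⊤) (l.app ⊤ (1 : Γ(X, ⊤))) :=
      funext fun m => InvTriv26.smul_one_app l T m
    show Function.Bijective fun m : Γ(X, T) => l.app T m
    rw [e]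
    exact he T le_top
  let S := ShortComplex.mk ι (ClSub.toSubscheme F) (kernel.condition _)
  haveI : Mono S.f := inferInstanceAs (Mono (kernel.ι (ClSub.toSubscheme F)))
  haveI : Epi S.g := Euler.epi_toSubscheme (X := X) F
  have hS : S.ShortExact := { exact := ShortComplex.exact_of_f_is_kernel _ (kernelIsKernel _) }
  exact ShortComplex.shortExact_of_iso
    (ShortComplex.isoMk (asIso l) (Iso.refl _) (Iso.refl _)
      (by simp [S, ι, l, ClSub.idealModι]) (by simp [S]) : ShortComplex.mk _ _ hzero ≅ S).symm hS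

theorem surjective_iff [Flat (X ↘ Spec (CommRingCat.of R))] :
    Function.Surjective (Sheaf.H.map ((SheafOfModules.toSheaf X.ringCatSheaf).map (ClSub.toSubscheme F)) 0) ↔
      NoZeroSMulDivisors R (Coh.HH X (Coh.structureModule X) 1) := by
  obtain ⟨π, hπ⟩ := IsDiscreteValuationRing.exists_irreducible R
  obtain ⟨h, hS⟩ := exists_shortExact (X := X) R hπ.maximalIdeal_eq (mem_nonZeroDivisors_of_ne_zero hπ.ne_zero)
  have hg : Function.Surjective (Cohom.hhMap R (ClSub.toSubscheme F) 0) ↔
      Function.Injective (Cohom.hhMap R (Formal.smulMod R (Coh.structureModule X) π) 1) := by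
    rw [← LinearMap.range_eq_top, ← LinearMap.ker_eq_bot,
      ← LinearMap.exact_iff.1 (Cohom.exact₃ (A := R) hS 0)]
    show _ ↔ LinearMap.ker (Cohom.hhMap R (ShortComplex.mk _ _ h).f 1) = ⊥
    rw [LinearMap.exact_iff.1 (Cohom.exact₁ (A := R) hS 0), LinearMap.ker_eq_top, LinearMap.range_eq_bot]
  refine Iff.trans hg ⟨fun hi => ?_, fun hN => ?_⟩
  · refine NoZeroSMulDivisors.mk fun {c x} hcx => or_iff_not_imp_left.2 fun hc => ?_
    obtain ⟨n, v, rfl⟩ := IsDiscreteValuationRing.eq_unit_mul_pow_irreducible hc hπ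
    rw [mul_smul] at hcx
    have hz : π ^ n • x = 0 := (v.isUnit.smul_eq_zero).1 hcx
    clear hcx hc
    induction n with
    | zero => simpa using hz
    | succ k ih =>
      rw [pow_succ', mul_smul] at hz
      exact ih (hi (by rw [map_zero]; exact hz))
  · intro x y hxy
    rw [FormalFun.hhMap_smulMod, FormalFun.hhMap_smulMod] at hxy
    have h0 : π • (x - y) = 0 := by rw [smul_sub, hxy, sub_self]
    exact sub_eq_zero.1 ((hN.eq_zero_or_eq_zero_of_smul_eq_zero h0).resolve_left hπ.ne_zero)

end GrothLib.CohFlat0
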